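import Groth.Agent.Lib.Ample18.Separated
import Mathlib.AlgebraicGeometry.QuasiAffine

/-!
Affine loci containing finitely many points; quasi-affine schemes.
-/

universe u

open CategoryTheory Limits AlgebraicGeometry TopologicalSpace Opposite TensorProduct

set_option backward.isDefEq.respectTransparency false

namespace Groth.Agent.Amp

open Groth.Agent.M2 (tsec pullSec IsGenerator res)

variable {X : Scheme.{u}} {M L : X.Modules}

theorem gen_smul_iff (hM : PicF.IsInvertible M) {x : X} (c : X.presheaf.stalk x)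
    (a : (M.presheaf.stalk x : Type u)) : Gen (c • a) ↔ IsUnit c ∧ Gen a := by
  obtain ⟨W, e, hxW, -, -, he⟩ := exists_isGenerator hM (V := ⊤) (x := x) trivial
  have hg := gen_of_isGenerator he hxW
  obtain ⟨α, rfl⟩ := hg.2 a
  simp only
  rw [← mul_smul, hg.ne_zero_smul, hg.ne_zero_smul, IsUnit.mul_iff]

theorem exists_stalk_gen (hM : PicF.IsInvertible M) (x : X) : ∃ g : (M.presheaf.stalk x : Type u), Gen g := by
  obtain ⟨W, e, hxW, -, -, he⟩ := exists_isGenerator hM (V := ⊤) (x := x) trivial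
  exact ⟨_, gen_of_isGenerator he hxW⟩

theorem not_gen_zero (hM : PicF.IsInvertible M) (x : X) : ¬ Gen (0 : (M.presheaf.stalk x : Type u)) := fun h => by
  have := h.1 (show (0 : X.presheaf.stalk x) • (0 : (M.presheaf.stalk x : Type u)) = (1 : X.presheaf.stalk x) • 0 by simp)
  exact zero_ne_one this

theorem gen_add (hM : PicF.IsInvertible M) {x : X} {a b : (M.presheaf.stalk x : Type u)} (ha : Gen a)
    (hb : ¬ Gen b) : Gen (a + b) := by
  obtain ⟨c, rfl⟩ := ha.2 b
  change Gen (a + c • a)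
  rw [show a + c • a = (1 + c) • a by rw [add_smul, one_smul], ha.ne_zero_smul]
  by_contra h
  change ¬ Gen (c • a) at hb
  rw [ha.ne_zero_smul] at hb
  have h2 : IsUnit ((1 + c) + -c) := by simp
  exact (IsLocalRing.isUnit_or_isUnit_of_isUnit_add h2).elim h fun h' => hb (by simpa using h'.neg)

theorem genLocus_secHom_zero (hM : PicF.IsInvertible M) :
    CohB1.genLocus M (M1.secHom (0 : Γ(M, ⊤))) = ⊥ :=
  genLocus_eq_of_forall hM _ _ fun x => ⟨fun h => by
    rw [gval_secHom, show gm M x (U := ⊤) trivial (0 : Γ(M, ⊤)) = 0 from map_zero _] at h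
    exact absurd h (not_gen_zero hM x), fun h => h.elim⟩

/-- The sum of two sections with affine loci: an affine locus. -/
theorem exists_sum (hM : PicF.IsInvertible M) (a b : Coh.structureModule X ⟶ M)
    (ha : IsAffineOpen (CohB1.genLocus M a)) (hb : IsAffineOpen (CohB1.genLocus M b)) :
    ∃ s : Coh.structureModule X ⟶ M, IsAffineOpen (CohB1.genLocus M s) ∧
      (∀ x ∈ CohB1.genLocus M s, x ∈ CohB1.genLocus M a ∨ x ∈ CohB1.genLocus M b) ∧
      ∀ x, (x ∈ CohB1.genLocus M a ∧ x ∉ CohB1.genLocus M b) ∨ (x ∈ CohB1.genLocus M b ∧ x ∉ CohB1.genLocus M a) →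
        x ∈ CohB1.genLocus M s := by
  let s := M1.secHom (gval a + gval b)
  have hg : ∀ x : X, gm M x (U := ⊤) trivial (gval s) =
      gm M x (U := ⊤) trivial (gval a) + gm M x (U := ⊤) trivial (gval b) := fun x => by
    rw [gval_secHom]; exact map_add _ _ _
  obtain ⟨ha', hha, hDa⟩ := exists_ratio hM s a
  obtain ⟨hb', hhb, hDb⟩ := exists_ratio hM s b
  have h1 : ha' + hb' = 1 := by
    refine (isGenerator_genLocus hM s _ le_rfl).1 ?_
    change (ha' + hb') • res M le_rfl (res M le_top (gval s)) = (1 : Γ(X, _)) • res M le_rfl (res M le_top (gval s))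
    rw [one_smul, res_self, add_smul, hha, hhb, gval_secHom]
    exact (map_add _ _ _).symm
  refine ⟨s, ?_, fun x hx => ?_, fun x hx => ?_⟩
  · refine isAffineOpen_of_isAffineOpen_basicOpen _ {ha', hb'} ?_ ?_
    · rw [Ideal.eq_top_iff_one, ← h1]
      exact Ideal.add_mem _ (Ideal.subset_span (Set.mem_insert _ _))
        (Ideal.subset_span (Set.mem_insert_of_mem _ rfl))
    · rintro _ (rfl | rfl)
      · rw [← hDa, inf_comm]; exact isAffineOpen_inf_genLocus hM s ha
      · rw [← hDb, inf_comm]; exact isAffineOpen_inf_genLocus hM s hb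
  · by_contra h
    push Not at h
    rw [mem_genLocus_iff hM, hg] at hx
    simp only [mem_genLocus_iff hM] at h
    obtain ⟨g, hgg⟩ := exists_stalk_gen hM x
    obtain ⟨α, hα⟩ := hgg.2 (gm M x (U := ⊤) trivial (gval a))
    obtain ⟨β, hβ⟩ := hgg.2 (gm M x (U := ⊤) trivial (gval b))
    simp only at hα hβ
    rw [← hα, ← hβ, ← add_smul, hgg.ne_zero_smul] at hx
    rw [← hα, ← hβ, hgg.ne_zero_smul, hgg.ne_zero_smul] at h
    exact (IsLocalRing.isUnit_or_isUnit_of_isUnit_add hx).elim h.1 h.2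
  · rw [mem_genLocus_iff hM, hg]
    simp only [mem_genLocus_iff hM] at hx
    rcases hx with ⟨h, h'⟩ | ⟨h, h'⟩
    · exact gen_add hM h h'
    · rw [add_comm]; exact gen_add hM h h'

/-- A property holding on a point outside the closure of the others: induction over finite sets of points. -/
theorem finite_induction_generic {P : Finset X → Prop} (h0 : P ∅)
    (hstep : ∀ (T : Finset X) (z : X), z ∉ T → (∀ w ∈ T, ¬ w ⤳ z) → P T → P (@insert _ _ (@Finset.instInsert _ (Classical.decEq X)) z T))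
    (T : Finset X) : P T := by
  classical
  induction T using Finset.strongInduction with
  | _ T ih =>
    rcases T.eq_empty_or_nonempty with rfl | hne
    · exact h0
    obtain ⟨z, hz, hmax⟩ := T.exists_max_image (fun z => (T.filter (fun w => z ⤳ w)).card) hne
    have h : ∀ w ∈ T.erase z, ¬ w ⤳ z := fun w hw hwz => by
      obtain ⟨hne, hwT⟩ := Finset.mem_erase.mp hw
      refine (hmax w hwT).not_gt (Finset.card_lt_card ((Finset.ssubset_iff_of_subset ?_).mpr ⟨w, ?_, ?_⟩))
      · intro v hv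
        simp only [Finset.mem_filter] at hv ⊢
        exact ⟨hv.1, hwz.trans hv.2⟩
      · exact Finset.mem_filter.mpr ⟨hwT, specializes_rfl⟩
      · intro hv
        exact hne (hwz.antisymm (Finset.mem_filter.mp hv).2).eq
    have := hstep (T.erase z) z (Finset.notMem_erase z T) h (ih _ (Finset.erase_ssubset hz))
    convert this using 1
    rw [← Finset.insert_erase hz]
    congr 1
    all_goals simp [Finset.erase_insert_eq_erase]

/-- Finitely many points in an affine locus of a power of an ample module. -/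
theorem exists_affine_hasSec_finite (h : CohB1.IsAmple L) {Z : Set X} (hZ : Z.Finite) {U : X.Opens} (hZU : Z ⊆ U) :
    ∃ (n : ℕ) (G : X.Opens), HasSec L (n + 1) G ∧ Z ⊆ G ∧ G ≤ U ∧ IsAffineOpen G := by
  classical
  suffices H : ∀ T : Finset X, (T : Set X) ⊆ U →
      ∃ (n : ℕ) (G : X.Opens), HasSec L (n + 1) G ∧ (T : Set X) ⊆ G ∧ G ≤ U ∧ IsAffineOpen G by
    simpa using H hZ.toFinset (by simpa using hZU)
  have hL := h.1
  intro T
  induction T using finite_induction_generic with
  | h0 => exact fun _ => ⟨0, ⊥, ⟨_, genLocus_secHom_zero (isInvertible_tensorPow hL 1)⟩, by simp, bot_le, isAffineOpen_bot X⟩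
  | hstep T z hzT hz ih =>
    intro hU
    rw [Finset.coe_insert, Set.insert_subset_iff] at hU
    obtain ⟨n, G, hG, hTG, hGU, hA⟩ := ih hU.2
    by_cases hzG : z ∈ G
    · exact ⟨n, G, hG, by rw [Finset.coe_insert]; exact Set.insert_subset hzG hTG, hGU, hA⟩
    let V : X.Opens := U ⊓ ⟨(closure (T : Set X))ᶜ, isClosed_closure.isOpen_compl⟩
    have hzV : z ∈ V := ⟨hU.1, fun hcl => by
      rw [← Set.biUnion_of_singleton (T : Set X), T.finite_toSet.closure_biUnion, Set.mem_iUnion₂] at hcl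
      obtain ⟨w, hw, hwz⟩ := hcl
      exact hz w hw (specializes_iff_mem_closure.mpr hwz)⟩
    obtain ⟨m, H, hH, hzH, hHV, hAH⟩ := exists_hasSec_le h hzV
    obtain ⟨a, ha⟩ := hG.powPow hL m
    obtain ⟨b, hb⟩ := (hH.powPow hL n).of_eq (Nat.mul_comm (m + 1) (n + 1))
    obtain ⟨s, hs, hs1, hs2⟩ := exists_sum (isInvertible_tensorPow hL _) a b (ha ▸ hA) (hb ▸ hAH)
    refine ⟨(n + 1) * (m + 1) - 1, _, HasSec.of_eq ⟨s, rfl⟩ (Nat.sub_add_cancel (Nat.mul_pos n.succ_pos m.succ_pos)).symm,
      ?_, fun x hx => ?_, hs⟩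
    · rw [Finset.coe_insert]
      refine Set.insert_subset (hs2 z (Or.inr ⟨hb ▸ hzH, ha ▸ hzG⟩)) fun w hw => hs2 w (Or.inl ⟨ha ▸ hTG hw, ?_⟩)
      rw [hb]
      exact fun hwH => (hHV hwH).2 (subset_closure hw)
    · rcases hs1 x hx with h' | h'
      · exact hGU (ha ▸ h')
      · exact (hHV (hb ▸ h')).1

/-- On a quasi-affine scheme: sections of an invertible module with small affine loci. -/
theorem exists_section_le [X.IsQuasiAffine] (hM : PicF.IsInvertible M) {x : X} {V : X.Opens} (hx : x ∈ V) :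
    ∃ s : Coh.structureModule X ⟶ M, x ∈ CohB1.genLocus M s ∧ CohB1.genLocus M s ≤ V ∧
      IsAffineOpen (CohB1.genLocus M s) := by
  haveI := M2.isQCoh_of_isFinLocFree (M2.isFinLocFree_of_isInvertible hM)
  obtain ⟨U, e, hxU, hUV, -, he⟩ := exists_isGenerator hM hx
  obtain ⟨_, ⟨_, ⟨f, hA, rfl⟩, rfl⟩, hxf, hfU⟩ :=
    (Scheme.IsQuasiAffine.isBasis_basicOpen X).exists_subset_of_mem_open hxU U.isOpen
  let D := X.basicOpen f
  have hle : (⊤ : X.Opens) ⊓ D ≤ U := inf_le_right.trans hfU
  obtain ⟨k, t, ht⟩ := M1.locSurj_of_isCompact M f (U := ⊤) isCompact_univ (res M hle e)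
  have hloc : CohB1.genLocus M (M1.secHom (f • t)) = D := genLocus_eq_of_forall hM _ _ fun y => by
    rw [gval_secHom, gm_smul, gen_smul_iff hM]
    constructor
    · exact fun h => (Scheme.mem_basicOpen X f y trivial).mpr h.1
    · intro hy
      have hyD : y ∈ (⊤ : X.Opens) ⊓ D := ⟨trivial, hy⟩
      have hu : IsUnit (X.presheaf.germ ⊤ y trivial f) := (Scheme.mem_basicOpen X f y trivial).mp hy
      refine ⟨hu, ?_⟩
      have := congrArg (gm M y (U := ⊤ ⊓ D) hyD) ht
      rw [gm_smul, gm_res] at this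
      rw [this, gen_smul_iff hM]
      refine ⟨?_, gen_of_isGenerator (isGenerator_res hle he) hyD⟩
      rw [map_pow, TopCat.Presheaf.germ_res_apply]
      exact hu.pow k
  refine ⟨M1.secHom (f • t), ?_, ?_, ?_⟩ <;> rw [hloc]
  · exact hxf
  · exact fun y hy => hUV (hfU hy)
  · exact hA

/-- Invertible modules on quasi-affine schemes are ample. -/
theorem isAmple_of_isQuasiAffine [X.IsQuasiAffine] (hL : PicF.IsInvertible L) : CohB1.IsAmple L := by
  refine isAmple_iff.mpr ⟨hL, inferInstance, fun x => ?_⟩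
  obtain ⟨s, hx, -, hA⟩ := exists_section_le hL (x := x) (V := ⊤) trivial
  exact ⟨0, _, hasSec_of_iso (M2.tensorPowOne L).symm s, hx, hA⟩

/-- Finitely many points in one affine locus, on a quasi-affine scheme. -/
theorem exists_affine_section_finite [X.IsQuasiAffine] (hM : PicF.IsInvertible M) {Z : Set X} (hZ : Z.Finite)
    {W : X.Opens} (hZW : Z ⊆ W) :
    ∃ s : Coh.structureModule X ⟶ M, IsAffineOpen (CohB1.genLocus M s) ∧ Z ⊆ CohB1.genLocus M s ∧
      CohB1.genLocus M s ≤ W := by
  classical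
  suffices H : ∀ T : Finset X, (T : Set X) ⊆ W → ∃ s : Coh.structureModule X ⟶ M,
      IsAffineOpen (CohB1.genLocus M s) ∧ (T : Set X) ⊆ CohB1.genLocus M s ∧ CohB1.genLocus M s ≤ W by
    simpa using H hZ.toFinset (by simpa using hZW)
  intro T
  induction T using finite_induction_generic with
  | h0 =>
    exact fun _ => ⟨M1.secHom 0, genLocus_secHom_zero hM ▸ isAffineOpen_bot X, by simp, genLocus_secHom_zero hM ▸ bot_le⟩
  | hstep T z hzT hz ih =>
    intro hW
    rw [Finset.coe_insert, Set.insert_subset_iff] at hW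
    obtain ⟨a, hA, hTG, hGW⟩ := ih hW.2
    by_cases hzG : z ∈ CohB1.genLocus M a
    · exact ⟨a, hA, by rw [Finset.coe_insert]; exact Set.insert_subset hzG hTG, hGW⟩
    let V : X.Opens := W ⊓ ⟨(closure (T : Set X))ᶜ, isClosed_closure.isOpen_compl⟩
    have hzV : z ∈ V := ⟨hW.1, fun hcl => by
      rw [← Set.biUnion_of_singleton (T : Set X), T.finite_toSet.closure_biUnion, Set.mem_iUnion₂] at hcl
      obtain ⟨w, hw, hwz⟩ := hcl
      exact hz w hw (specializes_iff_mem_closure.mpr hwz)⟩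
    obtain ⟨b, hzH, hHV, hAH⟩ := exists_section_le hM hzV
    obtain ⟨s, hs, hs1, hs2⟩ := exists_sum hM a b hA hAH
    refine ⟨s, hs, ?_, fun x hx => ?_⟩
    · rw [Finset.coe_insert]
      exact Set.insert_subset (hs2 z (Or.inr ⟨hzH, hzG⟩))
        fun w hw => hs2 w (Or.inl ⟨hTG hw, fun hwH => (hHV hwH).2 (subset_closure hw)⟩)
    · exact (hs1 x hx).elim (fun h' => hGW h') fun h' => (hHV h').1

end Groth.Agent.Amp
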