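import Groth.Agent.Lib.Ample18.Sections
import Mathlib.AlgebraicGeometry.Morphisms.QuasiSeparated

/-!
Ampleness through non-vanishing loci of powers.
-/

universe u

open CategoryTheory Limits AlgebraicGeometry TopologicalSpace Opposite TensorProduct

set_option backward.isDefEq.respectTransparency false

namespace Groth.Agent.Amp

open Groth.Agent.M2 (tsec pullSec IsGenerator res)

variable {X Y : Scheme.{u}} {M N L L' : X.Modules}

/-- `G` is the non-vanishing locus of a section of `L^n`. -/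
def HasSec (L : X.Modules) (n : ℕ) (G : X.Opens) : Prop :=
  ∃ s : Coh.structureModule X ⟶ CohB1.tensorPow L n, CohB1.genLocus _ s = G

theorem HasSec.of_eq {n m : ℕ} {G : X.Opens} (h : HasSec L n G) (e : n = m) : HasSec L m G := e ▸ h

theorem hasSec_of_iso {n : ℕ} (e : M ≅ CohB1.tensorPow L n) (s : Coh.structureModule X ⟶ M) :
    HasSec L n (CohB1.genLocus M s) :=
  ⟨s ≫ e.hom, genLocus_comp_iso e s⟩

theorem HasSec.inf (hL : PicF.IsInvertible L) {m n : ℕ} {G H : X.Opens} (h : HasSec L m G) (h' : HasSec L n H) :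
    HasSec L (m + n) (G ⊓ H) := by
  obtain ⟨s, rfl⟩ := h
  obtain ⟨t, rfl⟩ := h'
  rw [← genLocus_tmulHom (isInvertible_tensorPow hL m) (isInvertible_tensorPow hL n)]
  exact hasSec_of_iso (M2.tensorPowAdd L m n).symm _

theorem HasSec.powPow (hL : PicF.IsInvertible L) {m : ℕ} {G : X.Opens} (h : HasSec L m G) (k : ℕ) :
    HasSec L (m * (k + 1)) G := by
  obtain ⟨s, rfl⟩ := h
  rw [← genLocus_powHom (isInvertible_tensorPow hL m) s k]
  exact hasSec_of_iso (M2.tensorPowPow L m (k + 1)) _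

theorem HasSec.of_tensorPow {a n : ℕ} {G : X.Opens} (h : HasSec (CohB1.tensorPow L a) n G) :
    HasSec L (a * n) G := by
  obtain ⟨s, rfl⟩ := h
  exact hasSec_of_iso (M2.tensorPowPow L a n) _

theorem HasSec.to_tensorPow {a n : ℕ} {G : X.Opens} (h : HasSec L (a * n) G) :
    HasSec (CohB1.tensorPow L a) n G := by
  obtain ⟨s, rfl⟩ := h
  exact hasSec_of_iso (M2.tensorPowPow L a n).symm _

theorem HasSec.map_iso {n : ℕ} {G : X.Opens} (h : HasSec L n G) (e : L ≅ L') : HasSec L' n G := by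
  obtain ⟨s, rfl⟩ := h
  exact hasSec_of_iso (M2.tensorPowIso e n) _

theorem HasSec.tensor (hL : PicF.IsInvertible L) (hL' : PicF.IsInvertible L') {n : ℕ} {G H : X.Opens}
    (h : HasSec L n G) (h' : HasSec L' n H) : HasSec (CohB1.tensorMod L L') n (G ⊓ H) := by
  obtain ⟨s, rfl⟩ := h
  obtain ⟨t, rfl⟩ := h'
  rw [← genLocus_tmulHom (isInvertible_tensorPow hL n) (isInvertible_tensorPow hL' n)]
  exact hasSec_of_iso (M2.tensorPowMul L L' n).symm _

theorem HasSec.pullback (f : Y ⟶ X) (hL : PicF.IsInvertible L) {n : ℕ} {G : X.Opens} (h : HasSec L n G) :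
    HasSec ((Scheme.Modules.pullback f).obj L) n (f ⁻¹ᵁ G) := by
  obtain ⟨s, rfl⟩ := h
  rw [← genLocus_pullback f (isInvertible_tensorPow hL n) s (PicLoc.pullbackStructureIso f).symm]
  exact hasSec_of_iso (M2.pullTensorPowIso f L n) _

theorem isAffineOpen_inf_hasSec (hL : PicF.IsInvertible L) {n : ℕ} {G U : X.Opens} (h : HasSec L n G)
    (hU : IsAffineOpen U) : IsAffineOpen (G ⊓ U) := by
  obtain ⟨s, rfl⟩ := h
  exact isAffineOpen_inf_genLocus (isInvertible_tensorPow hL n) s hU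

theorem hasSec_iff {n : ℕ} {G : X.Opens} :
    HasSec L n G ↔ ∃ s : Coh.structureModule X ⟶ CohB1.tensorPow L n, G = CohB1.genLocus _ s :=
  exists_congr fun _ => eq_comm

/-- Ampleness in terms of loci. -/
theorem isAmple_iff : CohB1.IsAmple L ↔ PicF.IsInvertible L ∧ CompactSpace X ∧
    ∀ x : X, ∃ (n : ℕ) (G : X.Opens), HasSec L (n + 1) G ∧ x ∈ G ∧ IsAffineOpen G := by
  refine and_congr_right fun _ => and_congr_right fun _ => forall_congr' fun x => exists_congr fun n => ?_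
  exact ⟨fun ⟨s, h⟩ => ⟨_, ⟨s, rfl⟩, h⟩, fun ⟨_, ⟨s, e⟩, h⟩ => ⟨s, e ▸ h⟩⟩

/-- Loci of powers small enough around points: then ample. -/
theorem exists_affine_hasSec_of_basis (hL : PicF.IsInvertible L)
    (hB : ∀ (x : X) (V : X.Opens), x ∈ V → ∃ (n : ℕ) (G : X.Opens), HasSec L (n + 1) G ∧ x ∈ G ∧ G ≤ V)
    {x : X} {V : X.Opens} (hx : x ∈ V) :
    ∃ (n : ℕ) (G : X.Opens), HasSec L (n + 1) G ∧ x ∈ G ∧ G ≤ V ∧ IsAffineOpen G := by
  obtain ⟨U, hU, hxU, hUV⟩ := exists_isAffineOpen_mem_and_subset (U := V) hx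
  obtain ⟨n, G, hG, hxG, hGU⟩ := hB x U hxU
  refine ⟨n, G, hG, hxG, hGU.trans hUV, ?_⟩
  have := isAffineOpen_inf_hasSec hL hG hU
  rwa [inf_eq_left.mpr hGU] at this

theorem isAmple_of_basis (hL : PicF.IsInvertible L) [CompactSpace X]
    (hB : ∀ (x : X) (V : X.Opens), x ∈ V → ∃ (n : ℕ) (G : X.Opens), HasSec L (n + 1) G ∧ x ∈ G ∧ G ≤ V) :
    CohB1.IsAmple L := by
  refine isAmple_iff.mpr ⟨hL, inferInstance, fun x => ?_⟩
  obtain ⟨n, G, hG, hxG, -, hA⟩ := exists_affine_hasSec_of_basis hL hB (x := x) (V := ⊤) trivial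
  exact ⟨n, G, hG, hxG, hA⟩

/-- A scheme with an ample module is quasi-separated. -/
theorem quasiSeparatedSpace_of_isAmple (h : CohB1.IsAmple L) : QuasiSeparatedSpace X := by
  obtain ⟨hL, hX, hc⟩ := isAmple_iff.mp h
  choose n G hG hxG hA using hc
  refine Scheme.quasiSeparatedSpace_of_isOpenCover G
    (top_le_iff.mp fun x _ => Opens.mem_iSup.mpr ⟨x, hxG x⟩) hA fun i j => ?_
  exact (isAffineOpen_inf_hasSec hL (hG i) (hA j)).isCompact

theorem gen_smul_one_iff {U : X.Opens} {x : X} (hx : x ∈ U) (a : Γ(X, U)) :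
    Gen (gm (Coh.structureModule X) x hx (show Γ(Coh.structureModule X, U) from a)) ↔ x ∈ X.basicOpen a := by
  have e : (show Γ(Coh.structureModule X, U) from a) =
      a • (show Γ(Coh.structureModule X, U) from (1 : Γ(X, U))) := (mul_one a).symm
  rw [show gm (Coh.structureModule X) x hx (show Γ(Coh.structureModule X, U) from a) = X.presheaf.germ U x hx a •
      gm (Coh.structureModule X) x hx (show Γ(Coh.structureModule X, U) from (1 : Γ(X, U))) from
      (congrArg (gm (Coh.structureModule X) x hx) e).trans (gm_smul hx a _), (gen_one x hx).ne_zero_smul]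
  exact (Scheme.mem_basicOpen X a x hx).symm

/-- A basic open of an affine (or any) locus is again a locus. -/
theorem exists_hasSec_basicOpen (hM : PicF.IsInvertible M) [CompactSpace X] [QuasiSeparatedSpace X]
    (s : Coh.structureModule X ⟶ M) (a : Γ(X, CohB1.genLocus M s)) :
    ∃ N : ℕ, HasSec M (N + 1) (X.basicOpen a) := by
  haveI := M1.isQCoh_structureModule X
  obtain ⟨n₀, h⟩ := exists_extend_genLocus hM s (Coh.structureModule X)
    (show Γ(Coh.structureModule X, CohB1.genLocus M s) from a)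
  obtain ⟨t', ht'⟩ := h n₀ le_rfl
  let v := (M2.tensorLUnit (CohB1.tensorPow M n₀)).hom.app ⊤ t'
  refine ⟨n₀, SecTwist.tmulHom (M1.secHom v) s, ?_⟩
  refine genLocus_eq_of_forall (isInvertible_tensorPow hM _) _ _ fun x => ?_
  rw [gval_tmulHom, gval_secHom]
  refine (gen_tsec_iff (isInvertible_tensorPow hM _) hM (U := ⊤) (x := x) trivial _ _).trans ?_
  rw [← mem_genLocus_iff hM, gen_map_iso (M2.tensorLUnit (CohB1.tensorPow M n₀))]
  have key : ∀ hx : x ∈ CohB1.genLocus M s,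
      Gen (gm (CohB1.tensorMod (Coh.structureModule X) (CohB1.tensorPow M n₀)) x (U := ⊤) trivial t') ↔
        x ∈ X.basicOpen a := fun hx => by
    rw [← gm_res (le_top : CohB1.genLocus M s ≤ ⊤) hx, ht',
      gen_tsec_iff (PicLoc.isInvertible_structureModule X) (isInvertible_tensorPow hM _), gen_smul_one_iff]
    refine and_iff_left (gen_pw hM hx _ _ ?_)
    rw [gm_res]
    exact (mem_genLocus_iff hM s).mp hx
  exact ⟨fun ⟨h1, h2⟩ => (key h2).mp h1, fun h1 => ⟨(key (X.basicOpen_le a h1)).mpr h1, X.basicOpen_le a h1⟩⟩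

/-- The affine loci of an ample module form a basis. -/
theorem exists_hasSec_le (h : CohB1.IsAmple L) {x : X} {V : X.Opens} (hx : x ∈ V) :
    ∃ (n : ℕ) (G : X.Opens), HasSec L (n + 1) G ∧ x ∈ G ∧ G ≤ V ∧ IsAffineOpen G := by
  obtain ⟨hL, hX, hc⟩ := h
  haveI := hX
  haveI : QuasiSeparatedSpace X := quasiSeparatedSpace_of_isAmple ⟨hL, hX, hc⟩
  obtain ⟨n, s, hxG, hA⟩ := hc x
  obtain ⟨a, ha, hxa⟩ := hA.exists_basicOpen_le (V := V) ⟨x, hx⟩ hxG
  obtain ⟨N, hN⟩ := exists_hasSec_basicOpen (isInvertible_tensorPow hL (n + 1)) s a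
  exact ⟨(n + 1) * (N + 1) - 1, X.basicOpen a, hN.of_tensorPow.of_eq (Nat.sub_add_cancel (Nat.mul_pos n.succ_pos N.succ_pos)).symm,
    hxa, ha, hA.basicOpen a⟩

theorem isAmple_iff_basis (hL : PicF.IsInvertible L) [CompactSpace X] : CohB1.IsAmple L ↔
    ∀ (x : X) (V : X.Opens), x ∈ V → ∃ (n : ℕ) (G : X.Opens), HasSec L (n + 1) G ∧ x ∈ G ∧ G ≤ V :=
  ⟨fun h x V hx => by
    obtain ⟨n, G, h1, h2, h3, -⟩ := exists_hasSec_le h hx
    exact ⟨n, G, h1, h2, h3⟩, isAmple_of_basis hL⟩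

/-- Powers. -/
theorem isAmple_tensorPow_iff (hL : PicF.IsInvertible L) {n : ℕ} (hn : 0 < n) :
    CohB1.IsAmple (CohB1.tensorPow L n) ↔ CohB1.IsAmple L := by
  rw [isAmple_iff, isAmple_iff]
  constructor
  · rintro ⟨-, hX, h⟩
    refine ⟨hL, hX, fun x => ?_⟩
    obtain ⟨m, G, hG, hx, hA⟩ := h x
    exact ⟨n * (m + 1) - 1, G, hG.of_tensorPow.of_eq (Nat.sub_add_cancel (Nat.mul_pos hn m.succ_pos)).symm, hx, hA⟩
  · rintro ⟨-, hX, h⟩
    refine ⟨isInvertible_tensorPow hL n, hX, fun x => ?_⟩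
    obtain ⟨m, G, hG, hx, hA⟩ := h x
    obtain ⟨k, rfl⟩ := Nat.exists_eq_add_of_le hn
    exact ⟨m, G, ((hG.powPow hL k).of_eq (by ring)).to_tensorPow, hx, hA⟩

theorem isAmple_of_iso (e : L ≅ L') (h : CohB1.IsAmple L) : CohB1.IsAmple L' := by
  obtain ⟨hL, hX, hc⟩ := isAmple_iff.mp h
  refine isAmple_iff.mpr ⟨M2.isInvertible_of_iso e hL, hX, fun x => ?_⟩
  obtain ⟨n, G, hG, hh⟩ := hc x
  exact ⟨n, G, hG.map_iso e, hh⟩

/-- Pullback along an affine morphism. -/
theorem isAmple_pullback_of_isAffineHom (f : Y ⟶ X) [IsAffineHom f] (h : CohB1.IsAmple L) :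
    CohB1.IsAmple ((Scheme.Modules.pullback f).obj L) := by
  obtain ⟨hL, hX, hc⟩ := isAmple_iff.mp h
  haveI := hX
  refine isAmple_iff.mpr ⟨PicLoc.isInvertible_pullback f hL, QuasiCompact.compactSpace_of_compactSpace f, fun y => ?_⟩
  obtain ⟨n, G, hG, hy, hA⟩ := hc (f y)
  exact ⟨n, f ⁻¹ᵁ G, hG.pullback f hL, hy, hA.preimage f⟩

/-- Pullback along a topological embedding. -/
theorem isAmple_pullback_of_isInducing (f : Y ⟶ X) [CompactSpace Y] (hf : Topology.IsInducing f)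
    (h : CohB1.IsAmple L) : CohB1.IsAmple ((Scheme.Modules.pullback f).obj L) := by
  refine isAmple_of_basis (PicLoc.isInvertible_pullback f h.1) fun y V hy => ?_
  obtain ⟨V₀, hV₀, he⟩ := hf.isOpen_iff.mp V.isOpen
  have hy₀ : f y ∈ (⟨V₀, hV₀⟩ : X.Opens) := (he.ge hy : y ∈ f ⁻¹' V₀)
  obtain ⟨n, G, hG, hxG, hGV, -⟩ := exists_hasSec_le h hy₀
  exact ⟨n, f ⁻¹ᵁ G, hG.pullback f h.1, hxG, fun z hz => he.le (hGV hz)⟩

/-- Tensor with a module some power of which is generated at each point. -/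
theorem isAmple_tensor (hL' : PicF.IsInvertible L') (h : CohB1.IsAmple L)
    (h' : ∀ x : X, ∃ (n : ℕ) (G : X.Opens), HasSec L' (n + 1) G ∧ x ∈ G) :
    CohB1.IsAmple (CohB1.tensorMod L L') := by
  obtain ⟨hL, hX, hc⟩ := isAmple_iff.mp h
  haveI := hX
  refine isAmple_iff.mpr ⟨M2.isInvertible_tensor hL hL', hX, fun x => ?_⟩
  obtain ⟨n, G, hG, hxG, hA⟩ := hc x
  obtain ⟨m, H, hH, hxH⟩ := h' x
  refine ⟨(n + 1) * (m + 1) - 1, G ⊓ H, ?_, ⟨hxG, hxH⟩, ?_⟩
  · exact ((hG.powPow hL m).tensor hL hL' ((hH.powPow hL' n).of_eq (Nat.mul_comm _ _))).of_eq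
      (Nat.sub_add_cancel (Nat.mul_pos n.succ_pos m.succ_pos)).symm
  · rw [inf_comm]
    exact isAffineOpen_inf_hasSec hL' hH hA

end Groth.Agent.Amp
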