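import Groth.Agent.Lib.Ample18.Gen
import Groth.Agent.Lib.ModM1.Affine
import Groth.Prelude.Def_SecTwist
import Mathlib.AlgebraicGeometry.Morphisms.Affine

/-!
Powers of sections, pullbacks of sections, and extension of sections from a non-vanishing locus.
-/

universe u

open CategoryTheory Limits AlgebraicGeometry TopologicalSpace Opposite TensorProduct

set_option backward.isDefEq.respectTransparency false

namespace Groth.Agent.Amp

open Groth.Agent.M2 (tsec pullSec IsGenerator res)

variable {X Y : Scheme.{u}} {M N L : X.Modules}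

theorem tmul_eq_tsec {U : X.Opens} (s : Γ(M, U)) (t : Γ(N, U)) : SecTwist.tmul M N U s t = tsec M N s t := rfl

/-- Powers of a section of `L`. -/
noncomputable def pw {U : X.Opens} (e : Γ(L, U)) : (n : ℕ) → Γ(CohB1.tensorPow L n, U)
  | 0 => (M1.one U : Γ(Coh.structureModule X, U))
  | n + 1 => tsec (CohB1.tensorPow L n) L (pw e n) e

theorem pw_zero {U : X.Opens} (e : Γ(L, U)) : pw e 0 = (M1.one U : Γ(Coh.structureModule X, U)) := rfl

theorem pw_succ {U : X.Opens} (e : Γ(L, U)) (n : ℕ) :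
    pw e (n + 1) = tsec (CohB1.tensorPow L n) L (pw e n) e := rfl

theorem res_pw {U V : X.Opens} (h : V ≤ U) (e : Γ(L, U)) : ∀ n, res _ h (pw e n) = pw (res L h e) n
  | 0 => M1.mres_one h
  | n + 1 => by
    rw [pw_succ, pw_succ, ← res_pw h e n]
    exact M2.res_tsec h (pw e n) e

theorem pw_smul {U : X.Opens} (c : Γ(X, U)) (e : Γ(L, U)) : ∀ n, pw (c • e) n = c ^ n • pw e n
  | 0 => by rw [pow_zero, one_smul]; rfl
  | n + 1 => by
    rw [pw_succ, pw_succ, pw_smul c e n, pow_succ]
    refine (M2.tsec_smul_left _ _ _).trans ?_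
    rw [M2.tsec_smul_right, smul_smul]

theorem isInvertible_tensorPow (hL : PicF.IsInvertible L) (n : ℕ) : PicF.IsInvertible (CohB1.tensorPow L n) :=
  M2.isInvertible_tensorPow hL n

theorem gen_pw (hL : PicF.IsInvertible L) {U : X.Opens} {x : X} (hx : x ∈ U) (e : Γ(L, U)) :
    ∀ n, Gen (gm L x hx e) → Gen (gm (CohB1.tensorPow L n) x hx (pw e n))
  | 0, _ => gen_one x hx
  | n + 1, h => (gen_tsec_iff (isInvertible_tensorPow hL n) hL hx _ _).mpr ⟨gen_pw hL hx e n h, h⟩

theorem gen_pw_succ (hL : PicF.IsInvertible L) {U : X.Opens} {x : X} (hx : x ∈ U) (e : Γ(L, U)) (n : ℕ) :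
    Gen (gm (CohB1.tensorPow L (n + 1)) x hx (pw e (n + 1))) ↔ Gen (gm L x hx e) :=
  ⟨fun h => ((gen_tsec_iff (isInvertible_tensorPow hL n) hL hx _ _).mp h).2, gen_pw hL hx e (n + 1)⟩

theorem gval_tmulHom (a : Coh.structureModule X ⟶ M) (b : Coh.structureModule X ⟶ N) :
    gval (SecTwist.tmulHom a b) = tsec M N (gval a) (gval b) := SecTwist.val_tmulHom a b ⊤

theorem pow_eq_pw (s : Coh.structureModule X ⟶ L) (U : X.Opens) :
    ∀ n, SecTwist.pow s n U = pw (s.app U (M1.one U)) n
  | 0 => rfl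
  | n + 1 => by
    change SecTwist.tmul _ _ U (SecTwist.pow s n U) (SecTwist.val s U) = _
    rw [pow_eq_pw s U n]
    rfl

theorem gval_powHom (s : Coh.structureModule X ⟶ L) (n : ℕ) : gval (SecTwist.powHom s n) = pw (gval s) n :=
  (SecTwist.val_powHom s n ⊤).trans (pow_eq_pw s ⊤ n)

theorem twist_eq (s : Coh.structureModule X ⟶ L) (n : ℕ) (F : X.Modules) (U : X.Opens) (t : Γ(F, U)) :
    SecTwist.twist s n F U t = tsec F (CohB1.tensorPow L n) t (pw (res L (le_top : U ≤ ⊤) (gval s)) n) := by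
  rw [res_gval, ← pow_eq_pw]
  rfl

/-- The non-vanishing locus of a product is the intersection. -/
theorem genLocus_tmulHom (hM : PicF.IsInvertible M) (hN : PicF.IsInvertible N)
    (a : Coh.structureModule X ⟶ M) (b : Coh.structureModule X ⟶ N) :
    CohB1.genLocus (CohB1.tensorMod M N) (SecTwist.tmulHom a b) = CohB1.genLocus M a ⊓ CohB1.genLocus N b :=
  genLocus_eq_of_forall (M2.isInvertible_tensor hM hN) _ _ fun x => by
    rw [gval_tmulHom, gen_tsec_iff hM hN, ← mem_genLocus_iff hM, ← mem_genLocus_iff hN]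
    rfl

/-- The non-vanishing locus of a positive power. -/
theorem genLocus_powHom (hL : PicF.IsInvertible L) (s : Coh.structureModule X ⟶ L) (n : ℕ) :
    CohB1.genLocus (CohB1.tensorPow L (n + 1)) (SecTwist.powHom s (n + 1)) = CohB1.genLocus L s :=
  genLocus_eq_of_forall (isInvertible_tensorPow hL _) _ _ fun x => by
    rw [gval_powHom, gen_pw_succ hL, mem_genLocus_iff hL]

section Pull

variable (f : Y ⟶ X)

theorem map_pullSec (φ : M ⟶ N) {U : X.Opens} (t : Γ(M, U)) :
    ((Scheme.Modules.pullback f).map φ).app (f ⁻¹ᵁ U) (pullSec f M t) = pullSec f N (φ.app U t) :=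
  (congrArg (fun ψ => ψ.app U t) ((Scheme.Modules.pullbackPushforwardAdjunction f).unit.naturality φ)).symm

/-- The locus of a pulled back section, for any identification of the pulled back structure sheaf. -/
theorem genLocus_pullback (hL : PicF.IsInvertible L) (s : Coh.structureModule X ⟶ L)
    (e : Coh.structureModule Y ≅ (Scheme.Modules.pullback f).obj (Coh.structureModule X)) :
    CohB1.genLocus ((Scheme.Modules.pullback f).obj L) (e.hom ≫ (Scheme.Modules.pullback f).map s) =
      f ⁻¹ᵁ CohB1.genLocus L s := by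
  refine genLocus_eq_of_forall (PicLoc.isInvertible_pullback f hL) _ _ fun y => ?_
  let P := (Scheme.Modules.pullback f).obj (Coh.structureModule X)
  let one' : Γ(P, ⊤) := pullSec f (Coh.structureModule X) (M1.one (⊤ : X.Opens))
  have h1 : Gen (gm P y (U := ⊤) trivial one') :=
    (gen_pullSec_iff f (PicLoc.isInvertible_structureModule X) (U := ⊤) (y := y) trivial _).mpr
      (gen_one (f y) (U := ⊤) trivial)
  have hv : Gen (gm P y (U := ⊤) trivial (e.hom.app ⊤ (M1.one ⊤))) :=
    (gen_map_iso e (U := ⊤) (x := y) trivial (M1.one ⊤)).mpr (gen_one y (U := ⊤) trivial)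
  obtain ⟨γ, hγ⟩ := h1.2 (gm P y (U := ⊤) trivial (e.hom.app ⊤ (M1.one ⊤)))
  have hu : IsUnit γ := (h1.ne_zero_smul γ).mp (by rw [show γ • gm P y (U := ⊤) trivial one' = _ from hγ]; exact hv)
  let φ := (Scheme.Modules.pullback f).map s
  have key : gm _ y (U := ⊤) trivial (gval (e.hom ≫ φ)) =
      γ • gm ((Scheme.Modules.pullback f).obj L) y (U := ⊤) trivial (pullSec f L (gval s)) := by
    refine (M2.stMap_sg ((M2.pmF Y).map φ) (U := ⊤) (x := y) trivial (e.hom.app ⊤ (M1.one ⊤))).symm.trans ?_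
    change M2.stMap ((M2.pmF Y).map φ) y (gm P y (U := ⊤) trivial (e.hom.app ⊤ (M1.one ⊤))) = _
    rw [← hγ, map_smul]
    refine congrArg (γ • ·) ?_
    refine (M2.stMap_sg ((M2.pmF Y).map φ) (U := ⊤) (x := y) trivial one').trans ?_
    exact congrArg (gm _ y (U := ⊤) trivial) (map_pullSec f s (U := ⊤) _)
  rw [key]
  have hsame : Gen (γ • gm ((Scheme.Modules.pullback f).obj L) y (U := ⊤) trivial (pullSec f L (gval s))) ↔
      Gen (gm ((Scheme.Modules.pullback f).obj L) y (U := ⊤) trivial (pullSec f L (gval s))) := by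
    have he : (fun r : Y.presheaf.stalk y => r • γ • gm ((Scheme.Modules.pullback f).obj L) y (U := ⊤) trivial
        (pullSec f L (gval s))) = (fun r => r • gm ((Scheme.Modules.pullback f).obj L) y (U := ⊤) trivial
        (pullSec f L (gval s))) ∘ fun r => r * γ := funext fun r => (mul_smul r γ _).symm
    change Function.Bijective _ ↔ Function.Bijective _
    rw [he]
    exact Function.Bijective.of_comp_iff _ (Units.mulRight hu.unit).bijective
  rw [hsame]
  refine (gen_pullSec_iff f hL (U := ⊤) (y := y) trivial _).trans ?_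
  exact (mem_genLocus_iff hL s).symm

end Pull

/-- The inclusion of a non-vanishing locus is affine. -/
theorem isAffineHom_genLocus_ι (hL : PicF.IsInvertible L) (s : Coh.structureModule X ⟶ L) :
    IsAffineHom (CohB1.genLocus L s).ι := by
  refine isAffineHom_of_forall_exists_isAffineOpen _ fun x => ?_
  obtain ⟨U, e, a, hxU, -, hU, -, -, heq⟩ := exists_local hL s (V := ⊤) (x := x) trivial
  refine ⟨U, hxU, hU, ?_⟩
  rw [← Scheme.Hom.isAffineOpen_iff_of_isOpenImmersion (CohB1.genLocus L s).ι,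
    Scheme.Hom.image_preimage_eq_opensRange_inf, Scheme.Opens.opensRange_ι, heq]
  exact hU.basicOpen a

/-- An affine open meets a non-vanishing locus in an affine open. -/
theorem isAffineOpen_inf_genLocus (hL : PicF.IsInvertible L) (s : Coh.structureModule X ⟶ L) {U : X.Opens}
    (hU : IsAffineOpen U) : IsAffineOpen (CohB1.genLocus L s ⊓ U) := by
  haveI := isAffineHom_genLocus_ι hL s
  have h := hU.preimage (CohB1.genLocus L s).ι
  rwa [← Scheme.Hom.isAffineOpen_iff_of_isOpenImmersion (CohB1.genLocus L s).ι,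
    Scheme.Hom.image_preimage_eq_opensRange_inf, Scheme.Opens.opensRange_ι] at h

/-- A generator restricts to a generator. -/
theorem isGenerator_res {U V : X.Opens} (h : V ≤ U) {e : Γ(L, U)} (he : IsGenerator e) :
    IsGenerator (res L h e) := fun W hW => by
  simp only [res_res]
  exact he W (hW.trans h)

theorem exists_trivialising_cover (hL : PicF.IsInvertible L) (s : Coh.structureModule X ⟶ L) [CompactSpace X] :
    ∃ (ι : Type u) (_ : Finite ι) (U : ι → X.Opens) (e : ∀ i, Γ(L, U i)) (a : ∀ i, Γ(X, U i)),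
      (⊤ ≤ ⨆ i, U i) ∧ (∀ i, IsAffineOpen (U i)) ∧ (∀ i, IsGenerator (e i)) ∧
      (∀ i, a i • e i = res L le_top (gval s)) ∧ ∀ i, CohB1.genLocus L s ⊓ U i = X.basicOpen (a i) := by
  choose U e a hxU _ hU he ha heq using fun x : X => exists_local hL s (V := ⊤) (x := x) trivial
  obtain ⟨T, hT⟩ := isCompact_univ.elim_finite_subcover (fun x => (U x : Set X)) (fun x => (U x).isOpen)
    (fun x _ => Set.mem_iUnion.mpr ⟨x, hxU x⟩)
  refine ⟨T, inferInstance, fun i => U i.1, fun i => e i.1, fun i => a i.1, fun y _ => ?_, fun i => hU i.1,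
    fun i => he i.1, fun i => ha i.1, fun i => heq i.1⟩
  obtain ⟨z, hz, hyz⟩ := Set.mem_iUnion₂.mp (hT (Set.mem_univ y))
  exact Opens.mem_iSup.mpr ⟨⟨z, hz⟩, hyz⟩

theorem tsec_zero_left {U : X.Opens} (n : Γ(N, U)) : tsec M N (0 : Γ(M, U)) n = 0 := by
  rw [← zero_smul Γ(X, U) (0 : Γ(M, U)), M2.tsec_smul_left, zero_smul]

/-- A global section of a quasi-coherent module vanishing on `X_s` is killed by large powers of `s`. -/
theorem exists_kill_of_res_genLocus (hL : PicF.IsInvertible L) [CompactSpace X] (s : Coh.structureModule X ⟶ L)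
    (F : X.Modules) [Coh.IsQCoh F] (t : Γ(F, ⊤))
    (ht : res F (le_top : CohB1.genLocus L s ≤ ⊤) t = 0) :
    ∃ n₀ : ℕ, ∀ n, n₀ ≤ n → tsec F (CohB1.tensorPow L n) t (pw (gval s) n) = 0 := by
  obtain ⟨ι, _, U, e, a, hcov, hU, he, ha, heq⟩ := exists_trivialising_cover hL s
  have hk : ∀ i, ∃ k : ℕ, a i ^ k • res F (le_top : U i ≤ ⊤) t = 0 := fun i => by
    refine M1.exists_pow_smul_eq_zero_affine F (hU i) (a i) _ ?_
    have h1 : X.basicOpen (a i) ≤ CohB1.genLocus L s := (heq i).ge.trans inf_le_left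
    calc M1.mres F (X.basicOpen_le (a i)) (res F le_top t) = res F h1 (res F le_top t) :=
          (res_res _ _ t).trans (res_res _ _ t).symm
      _ = 0 := by rw [ht]; exact map_zero _
  choose k hk using hk
  refine ⟨⨆ i, k i, fun n hn => ?_⟩
  refine M1.modules_eq_of_locally_eq _ ⊤ U (fun i => le_top) hcov _ _ fun i => ?_
  rw [map_zero]
  change res _ le_top (tsec F (CohB1.tensorPow L n) t (pw (gval s) n)) = 0
  rw [M2.res_tsec, res_pw, ← ha i, pw_smul, M2.tsec_smul_right, ← M2.tsec_smul_left]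
  have hi : k i ≤ n := (le_ciSup (Finite.bddAbove_range k) i).trans hn
  rw [← Nat.sub_add_cancel hi, pow_add, mul_smul, hk i, smul_zero, tsec_zero_left]

/-- A section of a quasi-coherent module over `X_s` extends after multiplying by large powers of `s`. -/
theorem exists_extend_genLocus (hL : PicF.IsInvertible L) [CompactSpace X] [QuasiSeparatedSpace X]
    (s : Coh.structureModule X ⟶ L) (F : X.Modules) [Coh.IsQCoh F] (t : Γ(F, CohB1.genLocus L s)) :
    ∃ n₀ : ℕ, ∀ n, n₀ ≤ n → ∃ t' : Γ(CohB1.tensorMod F (CohB1.tensorPow L n), ⊤),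
      res _ (le_top : CohB1.genLocus L s ≤ ⊤) t' =
        tsec F (CohB1.tensorPow L n) t (pw (res L le_top (gval s)) n) := by
  obtain ⟨ι, _, U, e, a, hcov, hU, he, ha, heq⟩ := exists_trivialising_cover hL s
  have hDG : ∀ i, X.basicOpen (a i) ≤ CohB1.genLocus L s := fun i => (heq i).ge.trans inf_le_left
  choose k₀ t₀ ht₀ using fun i => M1.exists_pow_smul_eq_res_affine F (hU i) (a i) (res F (hDG i) t)
  let k := ⨆ i, k₀ i
  obtain ⟨ti, hti⟩ : ∃ ti : ∀ i, Γ(F, U i), ∀ i, res F (X.basicOpen_le (a i)) (ti i) =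
      X.presheaf.map (homOfLE (X.basicOpen_le (a i))).op (a i) ^ k • res F (hDG i) t := by
    refine ⟨fun i => a i ^ (k - k₀ i) • t₀ i, fun i => ?_⟩
    have hi : k₀ i ≤ k := le_ciSup (Finite.bddAbove_range k₀) i
    rw [res_smul, map_pow]
    change _ • M1.mres F (X.basicOpen_le (a i)) (t₀ i) = _
    rw [ht₀ i, smul_smul, ← pow_add, Nat.sub_add_cancel hi]
  choose W hWfin hWeq using fun p : ι × ι => M1.exists_finite_affine_iSup (X := X) (U := U p.1 ⊓ U p.2)
    ((hU p.1).isCompact.inter_of_isOpen (hU p.2).isCompact (U p.1).isOpen (U p.2).isOpen)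
  haveI : ∀ p, Finite (W p) := fun p => (hWfin p).to_subtype
  have hWle : ∀ q : Σ p, W p, (q.2.1 : X.Opens) ≤ U q.1.1 ⊓ U q.1.2 := fun q => by
    rw [hWeq q.1]
    exact le_iSup (fun w : W q.1 => (w.1 : X.Opens)) q.2
  have hm : ∀ q : Σ p, W p, ∃ (m : ℕ) (c : Γ(X, (q.2.1 : X.Opens))),
      res L ((hWle q).trans inf_le_right) (e q.1.2) = c • res L ((hWle q).trans inf_le_left) (e q.1.1) ∧
      X.presheaf.map (homOfLE ((hWle q).trans inf_le_left)).op (a q.1.1) =
        X.presheaf.map (homOfLE ((hWle q).trans inf_le_right)).op (a q.1.2) * c ∧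
      X.presheaf.map (homOfLE ((hWle q).trans inf_le_left)).op (a q.1.1) ^ m •
        (res F ((hWle q).trans inf_le_left) (ti q.1.1) -
          c ^ k • res F ((hWle q).trans inf_le_right) (ti q.1.2)) = 0 := by
    rintro ⟨⟨i, j⟩, ⟨V, hV⟩⟩
    have hle := hWle ⟨⟨i, j⟩, ⟨V, hV⟩⟩
    have hi : (V : X.Opens) ≤ U i := hle.trans inf_le_left
    have hj : (V : X.Opens) ≤ U j := hle.trans inf_le_right
    obtain ⟨c, hc⟩ := (he i V hi).2 (res L hj (e j))
    have hc' : res L hj (e j) = c • res L hi (e i) := hc.symm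
    have hs : X.presheaf.map (homOfLE hi).op (a i) • res L hi (e i) =
        X.presheaf.map (homOfLE hj).op (a j) • res L hj (e j) := by
      rw [← res_smul, ← res_smul, ha i, ha j, res_res, res_res]
    have hac : X.presheaf.map (homOfLE hi).op (a i) = X.presheaf.map (homOfLE hj).op (a j) * c := by
      refine (he i V hi).1 ?_
      change _ • res L hi (e i) = _ • res L hi (e i)
      rw [mul_smul, ← hc', hs]
    obtain ⟨m, hm⟩ := M1.exists_pow_smul_eq_zero_affine F V.2 (X.presheaf.map (homOfLE hi).op (a i))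
      (res F hi (ti i) - c ^ k • res F hj (ti j)) (by
        let D := X.basicOpen (X.presheaf.map (homOfLE hi).op (a i))
        have hDV : D ≤ V := X.basicOpen_le _
        have hDi : D ≤ X.basicOpen (a i) := (Scheme.basicOpen_res X (a i) (homOfLE hi).op).le.trans inf_le_right
        have hDj : D ≤ X.basicOpen (a j) := by
          rw [← heq j]
          exact le_inf (hDi.trans (hDG i)) (hDV.trans hj)
        have e1 : res F hDV (res F hi (ti i)) =
            X.presheaf.map (homOfLE hDV).op (X.presheaf.map (homOfLE hi).op (a i)) ^ k •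
              res F (hDi.trans (hDG i)) t := by
          rw [res_res, ← res_res (X.basicOpen_le (a i)) hDi, hti i, res_smul, res_res, map_pow,
            M1.ores_ores, M1.ores_ores]
        have e2 : res F hDV (res F hj (ti j)) =
            X.presheaf.map (homOfLE hDV).op (X.presheaf.map (homOfLE hj).op (a j)) ^ k •
              res F (hDi.trans (hDG i)) t := by
          rw [res_res, ← res_res (X.basicOpen_le (a j)) hDj, hti j, res_smul, res_res, map_pow,
            M1.ores_ores, M1.ores_ores]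
        change res F hDV (_ - _) = 0
        rw [show res F hDV (res F hi (ti i) - c ^ k • res F hj (ti j)) =
          res F hDV (res F hi (ti i)) - res F hDV (c ^ k • res F hj (ti j)) from map_sub _ _ _,
          res_smul, e1, e2, hac, map_mul, map_pow, smul_smul, ← mul_pow, mul_comm, sub_self])
    exact ⟨m, c, hc', hac, hm⟩
  choose m c hc hac hkill using hm
  refine ⟨k + ⨆ q, m q, fun n hn => ?_⟩
  let τ : ∀ i, Γ(CohB1.tensorMod F (CohB1.tensorPow L n), U i) := fun i =>
    tsec F (CohB1.tensorPow L n) (a i ^ (n - k) • ti i) (pw (e i) n)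
  have hcompat : ∀ i j, res _ (inf_le_left : U i ⊓ U j ≤ U i) (τ i) =
      res _ (inf_le_right : U i ⊓ U j ≤ U j) (τ j) := fun i j => by
    refine M1.modules_eq_of_locally_eq _ _ (fun w : W (i, j) => (w.1 : X.Opens))
      (fun w => hWle ⟨(i, j), w⟩) (hWeq (i, j)).le _ _ fun w => ?_
    let q : Σ p, W p := ⟨(i, j), w⟩
    change res _ (hWle q) (res _ inf_le_left (τ i)) = res _ (hWle q) (res _ inf_le_right (τ j))
    simp only [res_res, τ, M2.res_tsec, res_smul, map_pow, res_pw, M1.ores_ores]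
    rw [hc q, pw_smul, M2.tsec_smul_right, ← M2.tsec_smul_left, smul_smul]
    congr 1
    have hmn : m q ≤ n - k := by
      have h3 := le_ciSup (Finite.bddAbove_range m) q
      have h4 : k + iSup m ≤ n := hn
      omega
    have hkn : k ≤ n := by omega
    refine sub_eq_zero.mp ?_
    rw [show c q ^ n * X.presheaf.map (homOfLE ((hWle q).trans inf_le_right)).op (a j) ^ (n - k) =
        X.presheaf.map (homOfLE ((hWle q).trans inf_le_left)).op (a i) ^ (n - k) * c q ^ k by
      rw [hac q, mul_pow, mul_assoc, ← pow_add, Nat.sub_add_cancel hkn, mul_comm],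
      mul_smul, ← smul_sub, ← Nat.sub_add_cancel hmn, pow_add, mul_smul, hkill q, smul_zero]
  obtain ⟨t', ht', -⟩ := TopCat.Sheaf.existsUnique_gluing'
    ⟨(CohB1.tensorMod F (CohB1.tensorPow L n)).presheaf, (CohB1.tensorMod F (CohB1.tensorPow L n)).isSheaf⟩
    U ⊤ (fun i => homOfLE le_top) hcov τ (fun i j => hcompat i j)
  refine ⟨t', M1.modules_eq_of_locally_eq _ _ (fun i => X.basicOpen (a i)) hDG
    (fun x hx => ?_) _ _ fun i => ?_⟩
  · obtain ⟨i, hi⟩ := Opens.mem_iSup.mp (hcov (trivial : x ∈ (⊤ : X.Opens)))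
    exact Opens.mem_iSup.mpr ⟨i, (heq i).le ⟨hx, hi⟩⟩
  · have hT : res _ (le_top : U i ≤ ⊤) t' = τ i := ht' i
    change res _ (hDG i) (res _ le_top t') = res _ (hDG i) (tsec _ _ t _)
    rw [res_res, ← res_res (le_top : U i ≤ ⊤) (X.basicOpen_le (a i)), hT]
    simp only [τ, M2.res_tsec, res_smul, map_pow, res_pw, hti i, res_res]
    rw [← res_res (le_top : U i ≤ ⊤) (X.basicOpen_le (a i)) (gval s), ← ha i, res_smul, pw_smul,
      M2.tsec_smul_right, ← M2.tsec_smul_left, smul_smul, ← pow_add,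
      Nat.sub_add_cancel (show k ≤ n by omega)]

end Groth.Agent.Amp
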