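import Groth.Agent.Lib.Ample18.Ample
import Mathlib.AlgebraicGeometry.ValuativeCriterion
import Mathlib.AlgebraicGeometry.Morphisms.Separated

/-!
Separation from covers by affine non-vanishing loci.
-/

universe u

open CategoryTheory Limits AlgebraicGeometry TopologicalSpace Opposite TensorProduct

set_option backward.isDefEq.respectTransparency false

namespace Groth.Agent.Amp

open Groth.Agent.M2 (tsec pullSec IsGenerator res)

variable {X : Scheme.{u}} {M L : X.Modules}

/-- The section generates on its non-vanishing locus. -/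
theorem isGenerator_genLocus (hM : PicF.IsInvertible M) (s : Coh.structureModule X ⟶ M) :
    IsGenerator (res M (le_top : CohB1.genLocus M s ≤ ⊤) (gval s)) := by
  intro V hV
  simp only [res_res]
  have hb : ∀ x ∈ V, Function.Bijective ((M1.stalkAb x).map (M1.secHom (gval s))) := fun x hx => by
    have hg : Gen (gm M x (U := ⊤) trivial (gval s)) := (mem_genLocus_iff hM s).mp (hV hx)
    have h1 : Gen (gm (Coh.structureModule X) x (U := ⊤) trivial (M1.one ⊤)) := gen_one x (U := ⊤) trivial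
    let φ := M2.stMap ((M2.pmF X).map (M1.secHom (gval s))) x
    have h3 : φ (gm (Coh.structureModule X) x (U := ⊤) trivial (M1.one ⊤)) = gm M x (U := ⊤) trivial (gval s) :=
      (M2.stMap_sg ((M2.pmF X).map (M1.secHom (gval s))) (U := ⊤) (x := x) trivial (M1.one ⊤)).trans
        (congrArg (gm M x (U := ⊤) trivial) (M1.secHom_app_one (gval s)))
    have e : φ ∘ (fun r : X.presheaf.stalk x => r • gm (Coh.structureModule X) x (U := ⊤) trivial (M1.one ⊤)) =
        fun r : X.presheaf.stalk x => r • gm M x (U := ⊤) trivial (gval s) := funext fun r => by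
      simp only [Function.comp_apply, map_smul, h3]
    exact (Function.Bijective.of_comp_iff φ h1).mp (e ▸ hg)
  have h := TopCat.Presheaf.app_bijective_of_stalkFunctor_map_bijective
    ((M1.toShAb X).map (M1.secHom (gval s))) V hb
  have e : (fun r : Γ(X, V) => (M1.secHom (gval s)).app V r) =
      fun r : Γ(X, V) => r • M1.mres M (le_top : V ≤ ⊤) (gval s) := funext (Twist.secHom_app (gval s) V)
  exact (congrArg Function.Bijective e).mp h

/-- The coefficient of one section in terms of another on the locus of the latter. -/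
theorem exists_ratio (hM : PicF.IsInvertible M) (s t : Coh.structureModule X ⟶ M) :
    ∃ h : Γ(X, CohB1.genLocus M s),
      h • res M (le_top : CohB1.genLocus M s ≤ ⊤) (gval s) = res M (le_top : CohB1.genLocus M s ≤ ⊤) (gval t) ∧
      CohB1.genLocus M t ⊓ CohB1.genLocus M s = X.basicOpen h := by
  have he := isGenerator_genLocus hM s
  obtain ⟨h, hh⟩ := exists_coeff he (res M (le_top : CohB1.genLocus M s ≤ ⊤) (gval t))
  exact ⟨h, hh, genLocus_inf_eq_basicOpen hM t he hh⟩

theorem preimage_eq_top_of_closedPoint_mem {R : CommRingCat.{u}} [IsLocalRing R] (l : Spec R ⟶ X) {U : X.Opens}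
    (h : l (IsLocalRing.closedPoint R) ∈ U) : l ⁻¹ᵁ U = ⊤ :=
  top_le_iff.mp fun z _ => ((IsLocalRing.specializes_closedPoint z).map l.continuous).mem_open U.isOpen h

/-- Two liftings of a valuation ring whose closed points lie in loci of sections of the same module. -/
theorem mem_of_lifts (hM : PicF.IsInvertible M) (s t : Coh.structureModule X ⟶ M) {R K : CommRingCat.{u}}
    [IsLocalRing R] (φ : R ⟶ K) (hφ : Function.Injective φ) (l₁ l₂ : Spec R ⟶ X)
    (h₁ : l₁ (IsLocalRing.closedPoint R) ∈ CohB1.genLocus M s)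
    (h₂ : l₂ (IsLocalRing.closedPoint R) ∈ CohB1.genLocus M t)
    (H : Spec.map φ ≫ l₁ = Spec.map φ ≫ l₂) :
    l₁ (IsLocalRing.closedPoint R) ∈ CohB1.genLocus M t := by
  obtain ⟨h, hh, hD⟩ := exists_ratio hM s t
  obtain ⟨h', hh', -⟩ := exists_ratio hM t s
  let G := CohB1.genLocus M s ⊓ CohB1.genLocus M t
  have hprod : X.presheaf.map (homOfLE (inf_le_left : G ≤ _)).op h *
      X.presheaf.map (homOfLE (inf_le_right : G ≤ _)).op h' = 1 := by
    refine (isGenerator_genLocus hM t G inf_le_right).1 ?_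
    change (_ * _) • res M inf_le_right (res M le_top (gval t)) = (1 : Γ(X, G)) • _
    rw [one_smul, mul_smul, ← res_smul, hh', res_res, ← res_res (le_top : CohB1.genLocus M s ≤ ⊤)
      (inf_le_left : G ≤ _) (gval s), ← res_smul, hh, res_res, res_res]
  have hl₁ := preimage_eq_top_of_closedPoint_mem l₁ h₁
  have hl₂ := preimage_eq_top_of_closedPoint_mem l₂ h₂
  let u : Γ(Spec R, ⊤) := l₁.appLE _ ⊤ hl₁.ge h
  let v : Γ(Spec R, ⊤) := l₂.appLE _ ⊤ hl₂.ge h'
  let j := Spec.map φ
  have hj : Function.Injective (j.appTop : Γ(Spec R, ⊤) → Γ(Spec K, ⊤)) := by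
    intro a b hab
    apply (ConcreteCategory.bijective_of_isIso (Scheme.ΓSpecIso R).hom).1
    apply hφ
    rw [← CommRingCat.comp_apply, ← CommRingCat.comp_apply, ← Scheme.ΓSpecIso_naturality,
      CommRingCat.comp_apply, CommRingCat.comp_apply]
    exact congrArg _ hab
  have hG : (⊤ : (Spec K).Opens) ≤ (j ≫ l₁) ⁻¹ᵁ G := fun z _ => by
    refine ⟨hl₁.ge (trivial : j z ∈ (⊤ : (Spec R).Opens)), ?_⟩
    change (j ≫ l₁) z ∈ CohB1.genLocus M t
    rw [H]
    exact hl₂.ge (trivial : j z ∈ (⊤ : (Spec R).Opens))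
  have key₁ : ∀ {Y : Scheme.{u}} (l : Spec R ⟶ Y) (U V : Y.Opens) (hU : (⊤ : (Spec R).Opens) ≤ l ⁻¹ᵁ U)
      (hVU : V ≤ U) (hV : (⊤ : (Spec K).Opens) ≤ (j ≫ l) ⁻¹ᵁ V) (f : Γ(Y, U)),
      j.appTop (l.appLE U ⊤ hU f) = (j ≫ l).appLE V ⊤ hV (Y.presheaf.map (homOfLE hVU).op f) := by
    intro Y l U V hU hVU hV f
    rw [← CommRingCat.comp_apply, ← CommRingCat.comp_apply, Scheme.Hom.map_appLE, Scheme.Hom.appTop,
      Scheme.Hom.app_eq_appLE, Scheme.Hom.appLE_comp_appLE]
    rfl
  have huv : u * v = 1 := by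
    apply hj
    rw [map_mul, map_one, key₁ l₁ _ G hl₁.ge inf_le_left hG,
      key₁ l₂ _ G hl₂.ge inf_le_right (H ▸ hG)]
    have e : ∀ (l : Spec K ⟶ X) (hl : (⊤ : (Spec K).Opens) ≤ l ⁻¹ᵁ G) (f : Γ(X, G)), l = j ≫ l₁ →
        l.appLE G ⊤ hl f = (j ≫ l₁).appLE G ⊤ hG f := fun l hl f he => by subst he; rfl
    rw [e (j ≫ l₂) _ _ H.symm, ← map_mul, hprod, map_one]
  have hu : (Spec R).basicOpen u = ⊤ :=
    (Scheme.basicOpen_of_isUnit _ (IsUnit.of_mul_eq_one v huv))
  have : IsLocalRing.closedPoint R ∈ (Spec R).basicOpen u := hu.ge trivial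
  have hpre : (Spec R).basicOpen u ≤ l₁ ⁻¹ᵁ X.basicOpen h := by
    rw [Scheme.preimage_basicOpen]
    simp only [u, Scheme.Hom.appLE, CommRingCat.comp_apply]
    refine (Scheme.basicOpen_res _ _ _).le.trans inf_le_right
  exact (hD.ge (hpre this)).1

/-- Two liftings that agree generically agree, when their closed points lie in affine loci. -/
theorem lifts_eq (hM : PicF.IsInvertible M) (s t : Coh.structureModule X ⟶ M)
    (ht : IsAffineOpen (CohB1.genLocus M t)) {R K : CommRingCat.{u}}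
    [IsLocalRing R] (φ : R ⟶ K) (hφ : Function.Injective φ) (l₁ l₂ : Spec R ⟶ X)
    (h₁ : l₁ (IsLocalRing.closedPoint R) ∈ CohB1.genLocus M s)
    (h₂ : l₂ (IsLocalRing.closedPoint R) ∈ CohB1.genLocus M t)
    (H : Spec.map φ ≫ l₁ = Spec.map φ ≫ l₂) : l₁ = l₂ :=
  eq_of_SpecMap_comp_eq_of_isAffineOpen φ hφ _ ht
    (preimage_eq_top_of_closedPoint_mem l₁ (mem_of_lifts hM s t φ hφ l₁ l₂ h₁ h₂ H))
    (preimage_eq_top_of_closedPoint_mem l₂ h₂) H

/-- A scheme covered by affine loci of powers of one invertible module is separated. -/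
theorem isSeparated_of_cover (hL : PicF.IsInvertible L)
    (h : ∀ x : X, ∃ (n : ℕ) (G : X.Opens), HasSec L (n + 1) G ∧ x ∈ G ∧ IsAffineOpen G) : X.IsSeparated := by
  choose n G hG hxG hA using h
  haveI : QuasiSeparatedSpace X := Scheme.quasiSeparatedSpace_of_isOpenCover G
    (top_le_iff.mp fun x _ => Opens.mem_iSup.mpr ⟨x, hxG x⟩) hA
    fun i j => (isAffineOpen_inf_hasSec hL (hG i) (hA j)).isCompact
  constructor
  haveI : QuasiSeparated (terminal.from X) := (quasiSeparatedSpace_iff_quasiSeparated X).mp inferInstance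
  refine IsSeparated.of_valuativeCriterion _ fun S => ⟨fun a b => ?_⟩
  have : IsLocalRing (CommRingCat.of S.R : CommRingCat) := inferInstanceAs (IsLocalRing S.R)
  let p₁ := a.l (IsLocalRing.closedPoint S.R)
  let p₂ := b.l (IsLocalRing.closedPoint S.R)
  obtain ⟨s, hs⟩ := (hG p₁).powPow hL (n p₂)
  obtain ⟨t, ht⟩ := ((hG p₂).powPow hL (n p₁)).of_eq (Nat.mul_comm (n p₂ + 1) (n p₁ + 1))
  refine CommSq.LiftStruct.ext ?_
  exact lifts_eq (isInvertible_tensorPow hL _) s t (by rw [ht]; exact hA _)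
    (CommRingCat.ofHom (algebraMap S.R S.K)) (IsFractionRing.injective S.R S.K) a.l b.l
    (by rw [hs]; exact hxG _) (by rw [ht]; exact hxG _) (a.fac_left.trans b.fac_left.symm)

/-- A cover by affine loci of sections of invertible modules gives an affine diagonal. -/
theorem isAffineHom_diagonal_of_cover (h : ∀ x : X, ∃ (L : X.Modules) (s : Coh.structureModule X ⟶ L),
    PicF.IsInvertible L ∧ x ∈ CohB1.genLocus L s ∧ IsAffineOpen (CohB1.genLocus L s)) :
    IsAffineHom (pullback.diagonal (terminal.from X)) := by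
  choose L s hL hx hA using h
  rw [isAffineHom_diagonal_iff]
  intro _ _ U _ V _ hU hV
  have : IsAffineHom (X.homOfLE (inf_le_left : U ⊓ V ≤ U)) := by
    refine isAffineHom_of_forall_exists_isAffineOpen _ fun y => ?_
    let G := CohB1.genLocus (L y.1) (s y.1)
    have hGU := isAffineOpen_inf_genLocus (hL y.1) (s y.1) hU
    have hGV := isAffineOpen_inf_genLocus (hL y.1) (s y.1) hV
    have hinter : IsAffineOpen ((G ⊓ U) ⊓ (G ⊓ V)) := by
      haveI : IsAffine (G : Scheme.{u}) := hA y.1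
      have h1 : IsAffineOpen (G.ι ⁻¹ᵁ (G ⊓ U)) := hGU.preimage_of_isOpenImmersion G.ι (by rw [Scheme.Opens.opensRange_ι]; exact inf_le_left)
      have h2 : IsAffineOpen (G.ι ⁻¹ᵁ (G ⊓ V)) := hGV.preimage_of_isOpenImmersion G.ι (by rw [Scheme.Opens.opensRange_ι]; exact inf_le_left)
      have := (h1.inf h2).image_of_isOpenImmersion G.ι
      rwa [← Scheme.Hom.preimage_inf, Scheme.Hom.image_preimage_eq_opensRange_inf, Scheme.Opens.opensRange_ι,
        inf_eq_right.mpr (inf_le_left.trans inf_le_left)] at this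
    refine ⟨U.ι ⁻¹ᵁ G, hx y.1, ?_, ?_⟩
    · rw [← Scheme.Hom.isAffineOpen_iff_of_isOpenImmersion U.ι, Scheme.Hom.image_preimage_eq_opensRange_inf,
        Scheme.Opens.opensRange_ι, inf_comm]
      exact hGU
    · rw [← Scheme.Hom.comp_preimage, Scheme.homOfLE_ι, ← Scheme.Hom.isAffineOpen_iff_of_isOpenImmersion (U ⊓ V).ι,
        Scheme.Hom.image_preimage_eq_opensRange_inf, Scheme.Opens.opensRange_ι]
      rwa [show U ⊓ V ⊓ G = (G ⊓ U) ⊓ (G ⊓ V) by rw [inf_inf_inf_comm, inf_idem, inf_comm]]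
  haveI : IsAffine (U : Scheme.{u}) := hU
  exact isAffine_of_isAffineHom (X.homOfLE (inf_le_left : U ⊓ V ≤ U))

end Groth.Agent.Amp
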