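import Groth.Agent.Lib.TensorMod.Dual
import Groth.Agent.Lib.TensorMod.PullTensor
import Groth.Agent.Lib.Twist.GenLocus
import Groth.Agent.Lib.Twist.Triv
import Groth.Agent.Lib.ModM1.Stalk

/-!
Generators of invertible modules at points; non-vanishing loci of sections.
-/

universe u

open CategoryTheory Limits AlgebraicGeometry TopologicalSpace Opposite TensorProduct

set_option backward.isDefEq.respectTransparency false

namespace Groth.Agent.Amp

open Groth.Agent.M2 (tsec pullSec IsGenerator res stalkEquiv pullStalkEquiv)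

variable {X Y : Scheme.{u}} {M N : X.Modules}

/-- The germ of a section. -/
noncomputable abbrev gm (M : X.Modules) {U : X.Opens} (x : X) (hx : x ∈ U) (s : Γ(M, U)) :
    (M.presheaf.stalk x : Type u) := M.presheaf.germ U x hx s

/-- A stalk element generating freely. -/
def Gen {M : X.Modules} {x : X} (a : (M.presheaf.stalk x : Type u)) : Prop :=
  Function.Bijective fun r : X.presheaf.stalk x => r • a

theorem gm_res {U V : X.Opens} (h : V ≤ U) {x : X} (hx : x ∈ V) (s : Γ(M, U)) :
    gm M x hx (res M h s) = gm M x (h hx) s := M1.germ_mres M h hx s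

theorem gm_smul {U : X.Opens} {x : X} (hx : x ∈ U) (r : Γ(X, U)) (s : Γ(M, U)) :
    gm M x hx (r • s) = X.presheaf.germ U x hx r • gm M x hx s := M1.germ_smul M hx r s

theorem res_res {U V W : X.Opens} (h : V ≤ U) (h' : W ≤ V) (s : Γ(M, U)) :
    res M h' (res M h s) = res M (h'.trans h) s := M1.mres_mres M h h' s

theorem res_self {U : X.Opens} (h : U ≤ U) (s : Γ(M, U)) : res M h s = s := M1.mres_id M h s

theorem res_smul {U V : X.Opens} (h : V ≤ U) (r : Γ(X, U)) (s : Γ(M, U)) :
    res M h (r • s) = X.presheaf.map (homOfLE h).op r • res M h s :=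
  Scheme.Modules.map_smul M (homOfLE h) r s

theorem eq_of_gm {U : X.Opens} {s t : Γ(M, U)} (h : ∀ x (hx : x ∈ U), gm M x hx s = gm M x hx t) : s = t :=
  TopCat.Presheaf.section_ext ⟨M.presheaf, M.isSheaf⟩ U s t h

/-- A generator on an open gives a free generator of each stalk. -/
theorem gen_of_isGenerator {U : X.Opens} {e : Γ(M, U)} (he : IsGenerator e) {x : X} (hx : x ∈ U) :
    Gen (gm M x hx e) := by
  refine ⟨fun a b hab => ?_, fun m => ?_⟩
  · obtain ⟨V, hV, r, rfl⟩ := X.presheaf.germ_exist a
    obtain ⟨V', hV', r', rfl⟩ := X.presheaf.germ_exist b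
    have hW : x ∈ (V ⊓ V') ⊓ U := ⟨⟨hV, hV'⟩, hx⟩
    let W := (V ⊓ V') ⊓ U
    change X.presheaf.germ V x hV r • gm M x hx e = X.presheaf.germ V' x hV' r' • gm M x hx e at hab
    rw [← TopCat.Presheaf.germ_res_apply X.presheaf (homOfLE (inf_le_left.trans inf_le_left : W ≤ V)) x hW r,
      ← TopCat.Presheaf.germ_res_apply X.presheaf (homOfLE (inf_le_left.trans inf_le_right : W ≤ V')) x hW r',
      ← gm_res (inf_le_right : W ≤ U) hW e, ← gm_smul, ← gm_smul] at hab
    obtain ⟨W', hxW', i, i', h⟩ := M.presheaf.germ_eq x hW hW _ _ hab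
    have h' : res M i.le (_ • res M (inf_le_right : W ≤ U) e) = res M i.le (_ • res M (inf_le_right : W ≤ U) e) := h
    rw [res_smul, res_smul, res_res] at h'
    have hr := (he W' (i.le.trans inf_le_right)).1 h'
    have := congrArg (X.presheaf.germ W' x hxW') hr
    simp only [TopCat.Presheaf.germ_res_apply] at this
    exact this
  · obtain ⟨V, hV, s, rfl⟩ := M.presheaf.germ_exist m
    obtain ⟨r, hr⟩ := (he (V ⊓ U) inf_le_right).2 (res M inf_le_left s)
    refine ⟨X.presheaf.germ (V ⊓ U) x ⟨hV, hx⟩ r, ?_⟩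
    have := congrArg (gm M x (U := V ⊓ U) ⟨hV, hx⟩) hr
    rw [gm_smul, gm_res, gm_res] at this
    exact this

theorem Gen.ne_zero_smul {x : X} {g : (M.presheaf.stalk x : Type u)} (hg : Gen g)
    (c : X.presheaf.stalk x) : Gen (c • g) ↔ IsUnit c := by
  constructor
  · intro h
    obtain ⟨d, hd⟩ := h.2 g
    refine isUnit_iff_exists_inv'.mpr ⟨d, hg.1 ?_⟩
    simp only [one_smul]
    exact (mul_smul d c g).trans hd
  · intro hc
    have : (fun r : X.presheaf.stalk x => r • c • g) = (fun r => r • g) ∘ fun r => r * c :=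
      funext fun r => (mul_smul r c g).symm
    change Function.Bijective fun r : X.presheaf.stalk x => r • c • g
    rw [this]
    exact hg.comp (Units.mulRight hc.unit).bijective

theorem gen_one (x : X) {U : X.Opens} (hx : x ∈ U) :
    Gen (gm (Coh.structureModule X) x hx (show Γ(Coh.structureModule X, U) from (1 : Γ(X, U)))) := by
  refine gen_of_isGenerator (fun V h => ?_) hx
  have e : ∀ r : Γ(X, V), r • res (Coh.structureModule X) h (show Γ(Coh.structureModule X, U) from (1 : Γ(X, U))) =
      (show Γ(Coh.structureModule X, V) from r) := fun r => by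
    change r * X.presheaf.map (homOfLE h).op (1 : Γ(X, U)) = r
    rw [map_one, mul_one]
  simp only [e]
  exact Function.bijective_id

/-- Invertible modules have generators near every point, inside any given open. -/
theorem exists_isGenerator (hM : PicF.IsInvertible M) {x : X} {V : X.Opens} (hx : x ∈ V) :
    ∃ (U : X.Opens) (e : Γ(M, U)), x ∈ U ∧ U ≤ V ∧ IsAffineOpen U ∧ IsGenerator e := by
  obtain ⟨U, hxU, ⟨i⟩⟩ := hM x
  obtain ⟨W, hW, hxW, hWU⟩ := exists_isAffineOpen_mem_and_subset (U := U ⊓ V) ⟨hxU, hx⟩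
  obtain ⟨i'⟩ := M2.nonempty_trivial_mono (fun y hy => (hWU hy).1) i
  obtain ⟨e, he⟩ := M2.exists_generator i'
  exact ⟨W, e, hxW, fun y hy => (hWU hy).2, hW, he⟩

/-- The global section named by a map out of the structure sheaf. -/
noncomputable def gval (s : Coh.structureModule X ⟶ M) : Γ(M, ⊤) := s.app ⊤ (M1.one ⊤)

theorem secHom_gval (s : Coh.structureModule X ⟶ M) : M1.secHom (gval s) = s := (Twist.eq_secHom s).symm

theorem gval_secHom (t : Γ(M, ⊤)) : gval (M1.secHom t) = t := M1.secHom_app_one t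

theorem gval_comp (s : Coh.structureModule X ⟶ M) (φ : M ⟶ N) : gval (s ≫ φ) = φ.app ⊤ (gval s) := rfl

theorem res_gval (s : Coh.structureModule X ⟶ M) (U : X.Opens) :
    res M (le_top : U ≤ ⊤) (gval s) = s.app U (M1.one U) :=
  (M1.app_mres s le_top _).symm.trans (congrArg (s.app U) (M1.mres_one le_top))

/-- Membership in the non-vanishing locus: the germ generates. -/
theorem mem_genLocus_iff (hM : PicF.IsInvertible M) (s : Coh.structureModule X ⟶ M) {x : X} :
    x ∈ CohB1.genLocus M s ↔ Gen (gm M x (U := ⊤) trivial (gval s)) := by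
  constructor
  · intro h
    obtain ⟨U, hxU, hU⟩ := Twist.exists_of_mem_genLocus h
    rw [← secHom_gval s, Twist.isIso_restrict_secHom_iff] at hU
    have he : IsGenerator (res M (le_top : U ≤ ⊤) (gval s)) := fun V hV => by
      simp only [res_res]
      exact hU V hV
    have := gen_of_isGenerator he hxU
    rwa [gm_res] at this
  · intro h
    obtain ⟨U, e, hxU, -, -, he⟩ := exists_isGenerator hM (V := ⊤) (x := x) trivial
    obtain ⟨a, ha⟩ := (he U le_rfl).2 (res M (le_top : U ≤ ⊤) (gval s))
    change a • res M le_rfl e = _ at ha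
    rw [res_self] at ha
    have hu : IsUnit (X.presheaf.germ U x hxU a) := by
      refine ((gen_of_isGenerator he hxU).ne_zero_smul _).mp ?_
      rw [← gm_smul, ha, gm_res]
      exact h
    refine Twist.le_genLocus (U := X.basicOpen a) ?_ ((Scheme.mem_basicOpen X a x hxU).mpr hu)
    rw [← secHom_gval s, Twist.isIso_restrict_secHom_iff]
    intro V hV
    have hVU : V ≤ U := hV.trans (X.basicOpen_le a)
    have hua : IsUnit (X.presheaf.map (homOfLE hVU).op a) := by
      have h1 := (X.toRingedSpace.isUnit_res_basicOpen a).map (X.presheaf.map (homOfLE hV).op).hom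
      rw [show X.presheaf.map (homOfLE hVU).op a =
        X.presheaf.map (homOfLE hV).op (X.presheaf.map (homOfLE (X.basicOpen_le a)).op a) from
        ConcreteCategory.congr_hom (X.presheaf.map_comp (homOfLE (X.basicOpen_le a)).op (homOfLE hV).op) a]
      exact h1
    have e1 : (fun r : Γ(X, V) => r • M1.mres M (le_top : V ≤ ⊤) (gval s)) =
        (fun r : Γ(X, V) => r • res M hVU e) ∘ fun r => r * X.presheaf.map (homOfLE hVU).op a := funext fun r => by
      change r • res M le_top (gval s) = (r * _) • res M hVU e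
      rw [← res_res le_top hVU, ← ha, res_smul, mul_smul]
    rw [e1]
    exact (he V hVU).comp (Units.mulRight hua.unit).bijective

/-- In a trivialisation the non-vanishing locus is a basic open. -/
theorem genLocus_inf_eq_basicOpen (hM : PicF.IsInvertible M) (s : Coh.structureModule X ⟶ M) {U : X.Opens}
    {e : Γ(M, U)} (he : IsGenerator e) {a : Γ(X, U)} (ha : a • e = res M le_top (gval s)) :
    CohB1.genLocus M s ⊓ U = X.basicOpen a := by
  have key : ∀ x (hx : x ∈ U), x ∈ CohB1.genLocus M s ↔ x ∈ X.basicOpen a := fun x hx => by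
    rw [mem_genLocus_iff hM, ← gm_res (le_top : U ≤ ⊤) hx, ← ha, gm_smul,
      (gen_of_isGenerator he hx).ne_zero_smul]
    exact (Scheme.mem_basicOpen X a x hx).symm
  ext x
  exact ⟨fun h => (key x h.2).mp h.1, fun h => ⟨(key x (X.basicOpen_le a h)).mpr h, X.basicOpen_le a h⟩⟩

/-- Over a trivialising open a section is a multiple of the generator. -/
theorem exists_coeff {U : X.Opens} {e : Γ(M, U)} (he : IsGenerator e) (t : Γ(M, U)) :
    ∃ a : Γ(X, U), a • e = t := by
  obtain ⟨a, ha⟩ := (he U le_rfl).2 t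
  exact ⟨a, by rwa [show res M le_rfl e = e from res_self _ e] at ha⟩

/-- Trivialising a section near a point. -/
theorem exists_local (hM : PicF.IsInvertible M) (s : Coh.structureModule X ⟶ M) {x : X} {V : X.Opens}
    (hx : x ∈ V) : ∃ (U : X.Opens) (e : Γ(M, U)) (a : Γ(X, U)), x ∈ U ∧ U ≤ V ∧ IsAffineOpen U ∧
      IsGenerator e ∧ a • e = res M le_top (gval s) ∧ CohB1.genLocus M s ⊓ U = X.basicOpen a := by
  obtain ⟨U, e, hxU, hUV, hU, he⟩ := exists_isGenerator hM hx
  obtain ⟨a, ha⟩ := exists_coeff he (res M le_top (gval s))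
  exact ⟨U, e, a, hxU, hUV, hU, he, ha, genLocus_inf_eq_basicOpen hM s he ha⟩

/-- Germ of the image under an isomorphism. -/
theorem gen_map_iso (φ : M ≅ N) {U : X.Opens} {x : X} (hx : x ∈ U) (t : Γ(M, U)) :
    Gen (gm N x hx (φ.hom.app U t)) ↔ Gen (gm M x hx t) := by
  have hb : Function.Bijective (M2.stMap ((M2.pmF X).map φ.hom) x) :=
    (M1.isIso_iff_stalk φ.hom).mp inferInstance x
  have hg : gm N x hx (φ.hom.app U t) = M2.stMap ((M2.pmF X).map φ.hom) x (gm M x hx t) :=
    (M2.stMap_sg ((M2.pmF X).map φ.hom) hx t).symm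
  have e : (fun r : X.presheaf.stalk x => r • gm N x hx (φ.hom.app U t)) =
      M2.stMap ((M2.pmF X).map φ.hom) x ∘ fun r => r • gm M x hx t := funext fun r => by
    simp only [Function.comp_apply, map_smul, hg]
  change Function.Bijective (fun r : X.presheaf.stalk x => r • gm N x hx (φ.hom.app U t)) ↔ _
  rw [e]
  exact hb.of_comp_iff' _

theorem genLocus_comp_iso (φ : M ≅ N) (s : Coh.structureModule X ⟶ M) :
    CohB1.genLocus N (s ≫ φ.hom) = CohB1.genLocus M s := Twist.genLocus_comp_iso s φ

/-- Pure tensors of free generators. -/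
theorem gen_tsec_iff (hM : PicF.IsInvertible M) (hN : PicF.IsInvertible N) {U : X.Opens} {x : X} (hx : x ∈ U)
    (s : Γ(M, U)) (t : Γ(N, U)) :
    Gen (gm (CohB1.tensorMod M N) x hx (tsec M N s t)) ↔ Gen (gm M x hx s) ∧ Gen (gm N x hx t) := by
  obtain ⟨W, eM, hxW, -, -, heM⟩ := exists_isGenerator hM hx
  obtain ⟨W', eN, hxW', -, -, heN⟩ := exists_isGenerator hN hx
  have hA := gen_of_isGenerator heM hxW
  have hB := gen_of_isGenerator heN hxW'
  obtain ⟨α, hα⟩ := hA.2 (gm M x hx s)
  obtain ⟨β, hβ⟩ := hB.2 (gm N x hx t)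
  simp only at hα hβ
  let g := (stalkEquiv M N x).symm (gm M x hxW eM ⊗ₜ gm N x hxW' eN)
  have hg : Gen g := by
    have e : (fun r : X.presheaf.stalk x => r • g) =
        (stalkEquiv M N x).symm ∘ TensorProduct.congr
          (LinearEquiv.ofBijective (LinearMap.toSpanSingleton (X.presheaf.stalk x) _ (gm M x hxW eM)) hA)
          (LinearEquiv.ofBijective (LinearMap.toSpanSingleton (X.presheaf.stalk x) _ (gm N x hxW' eN)) hB) ∘
        (TensorProduct.lid (X.presheaf.stalk x) (X.presheaf.stalk x)).symm := funext fun r => by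
      simp [g, TensorProduct.smul_tmul', ← map_smul]
    change Function.Bijective fun r : X.presheaf.stalk x => r • g
    rw [e]
    exact (stalkEquiv M N x).symm.bijective.comp
      ((LinearEquiv.bijective _).comp (LinearEquiv.bijective _))
  have key : gm (CohB1.tensorMod M N) x hx (tsec M N s t) = (α * β) • g := by
    apply (stalkEquiv M N x).injective
    refine (M2.stalkEquiv_tsec M N x hx s t).trans ?_
    rw [map_smul, LinearEquiv.apply_symm_apply, ← TensorProduct.smul_tmul_smul, hα, hβ]
  rw [key, hg.ne_zero_smul, ← hα, ← hβ, hA.ne_zero_smul, hB.ne_zero_smul, IsUnit.mul_iff]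

theorem genLocus_eq_of_forall (hM : PicF.IsInvertible M) (s : Coh.structureModule X ⟶ M) (D : X.Opens)
    (h : ∀ x, Gen (gm M x (U := ⊤) trivial (gval s)) ↔ x ∈ D) : CohB1.genLocus M s = D :=
  Opens.ext (Set.ext fun x => (mem_genLocus_iff hM s).trans (h x))

section Pull

variable (f : Y ⟶ X)

/-- Pullback of a free generator. -/
theorem gen_pullSec_iff (hM : PicF.IsInvertible M) {U : X.Opens} {y : Y} (hy : f y ∈ U) (s : Γ(M, U)) :
    Gen (gm ((Scheme.Modules.pullback f).obj M) y (U := f ⁻¹ᵁ U) hy (pullSec f M s)) ↔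
      Gen (gm M (f y) hy s) := by
  obtain ⟨W, e, hxW, -, -, he⟩ := exists_isGenerator hM hy
  have hA := gen_of_isGenerator he hxW
  obtain ⟨α, hα⟩ := hA.2 (gm M (f y) hy s)
  simp only at hα
  let B := (Y.presheaf.stalk y : Type u)
  let g := pullStalkEquiv f y M ((1 : B) ⊗ₜ gm M (f y) hxW e)
  have hg : Gen g := by
    have e1 : (fun r : B => r • g) = pullStalkEquiv f y M ∘
        TensorProduct.congr (LinearEquiv.refl (X.presheaf.stalk (f y)) B)
          (LinearEquiv.ofBijective (LinearMap.toSpanSingleton (X.presheaf.stalk (f y)) _ (gm M (f y) hxW e)) hA) ∘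
        (TensorProduct.rid (X.presheaf.stalk (f y)) B).symm := funext fun r => by
      simp only [g, Function.comp_apply, TensorProduct.rid_symm_apply, TensorProduct.congr_tmul,
        LinearEquiv.refl_apply, LinearEquiv.ofBijective_apply, LinearMap.toSpanSingleton_apply, one_smul,
        ← map_smul, TensorProduct.smul_tmul', smul_eq_mul, mul_one]
    change Function.Bijective fun r : B => r • g
    rw [e1]
    exact (pullStalkEquiv f y M).bijective.comp ((LinearEquiv.bijective _).comp (LinearEquiv.bijective _))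
  have key : gm ((Scheme.Modules.pullback f).obj M) y (U := f ⁻¹ᵁ U) hy (pullSec f M s) =
      f.stalkMap y α • g := by
    refine (M2.pullStalkEquiv_tmul f y M hy s).symm.trans ?_
    rw [show M.presheaf.germ U (f y) hy s = α • gm M (f y) hxW e from hα.symm, TensorProduct.tmul_smul,
      ← map_smul]
    congr 1
  rw [key, hg.ne_zero_smul, ← hα, hA.ne_zero_smul]
  exact isUnit_map_iff (f.stalkMap y).hom α

end Pull

end Groth.Agent.Amp
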